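import Mathlib.RingTheory.AdicCompletion.Algebra
import Mathlib.RingTheory.DividedPowers.DPMorphism
import Mathlib.Tactic

/-!
# Divided powers on a principal adic completion
-/

set_option autoImplicit false
set_option linter.style.haveILetI false

universe u

open Finset

namespace Groth.Agent.DPowCompl

variable {A : Type u} [CommRing A] {I : Ideal A} (γ : DividedPowers I) (p : A) (t : ℕ)

set_option quotPrecheck false in
local notation "P" => Ideal.span ({p} : Set A)
set_option quotPrecheck false in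
local notation "Ac" => AdicCompletion (Ideal.span ({p} : Set A)) A

theorem evalₐ_le {m n : ℕ} (h : m ≤ n) (x : Ac) (a : A)
    (ha : AdicCompletion.evalₐ P n x = Ideal.Quotient.mk (P ^ n) a) :
    AdicCompletion.evalₐ P m x = Ideal.Quotient.mk (P ^ m) a := by
  induction x using AdicCompletion.induction_on with
  | _ f =>
    rw [AdicCompletion.evalₐ_mk] at ha ⊢
    rw [← AdicCompletion.Ideal.mk_eq_mk _ h]
    rw [Ideal.Quotient.eq] at ha ⊢
    exact Ideal.pow_le_pow_right h ha

/-- The composite `Â → A/Pᵗ → A/I`. -/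
noncomputable def toQuot (ht : Ideal.span {p} ^ t ≤ I) : Ac →+* A ⧸ I :=
  (Ideal.Quotient.factor ht).comp (AdicCompletion.evalₐ P t).toRingHom

variable (ht : Ideal.span {p} ^ t ≤ I)

theorem toQuot_surjective : Function.Surjective (toQuot p t ht) :=
  (Ideal.Quotient.factor_surjective ht).comp (AdicCompletion.surjective_evalₐ P t)

theorem toQuot_rep {j : ℕ} {x : Ac} {a : A}
    (ha : AdicCompletion.evalₐ P (t + j) x = Ideal.Quotient.mk _ a) :
    toQuot p t ht x = Ideal.Quotient.mk I a := by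
  show Ideal.Quotient.factor ht (AdicCompletion.evalₐ P t x) = _
  rw [evalₐ_le p (Nat.le_add_right t j) x a ha, Ideal.Quotient.factor_mk]

theorem mem_of_rep {j : ℕ} {x : Ac} (hx : x ∈ RingHom.ker (toQuot p t ht)) {a : A}
    (ha : AdicCompletion.evalₐ P (t + j) x = Ideal.Quotient.mk _ a) : a ∈ I := by
  rw [← Ideal.Quotient.eq_zero_iff_mem, ← toQuot_rep p t ht ha]
  exact hx

include ht in
theorem dpow_mem_pow {j m : ℕ} (hm : m ≠ 0) {e : A} (he : e ∈ P ^ (t + j)) : γ.dpow m e ∈ P ^ j := by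
  rw [Ideal.span_singleton_pow, Ideal.mem_span_singleton'] at he
  obtain ⟨a, rfl⟩ := he
  have hI : p ^ t * a ∈ I := ht (Ideal.mul_mem_right _ _ (Ideal.pow_mem_pow (Ideal.mem_span_singleton_self p) t))
  rw [show a * p ^ (t + j) = p ^ j * (p ^ t * a) by ring, γ.dpow_mul hI, ← pow_mul]
  exact Ideal.mul_mem_right _ _ (Ideal.pow_le_pow_right (Nat.le_mul_of_pos_right j (Nat.pos_of_ne_zero hm))
    (Ideal.pow_mem_pow (Ideal.mem_span_singleton_self p) _))

include ht in
theorem dpow_congr {j n : ℕ} {a b : A} (hb : b ∈ I) (h : a - b ∈ P ^ (t + j)) :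
    Ideal.Quotient.mk (P ^ j) (γ.dpow n a) = Ideal.Quotient.mk (P ^ j) (γ.dpow n b) := by
  have he : a - b ∈ I := ht (Ideal.pow_le_pow_right (Nat.le_add_right t j) h)
  conv_lhs => rw [show a = b + (a - b) by ring, γ.dpow_add hb he, map_sum]
  rw [Finset.sum_eq_single (n, 0)]
  · simp [γ.dpow_zero he]
  · rintro ⟨k, l⟩ hk hne
    have hl : l ≠ 0 := fun h0 => hne (by
      have := Finset.HasAntidiagonal.mem_antidiagonal.1 hk
      simp only [Prod.mk.injEq] at *
      omega)
    rw [map_mul, Ideal.Quotient.eq_zero_iff_mem.2 (dpow_mem_pow γ p t ht hl h), mul_zero]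
  · simp

/-- A representative at every level. -/
noncomputable def rep (x : Ac) (j : ℕ) : A :=
  (Ideal.Quotient.mk_surjective (AdicCompletion.evalₐ P (t + j) x)).choose

theorem mk_rep (x : Ac) (j : ℕ) : AdicCompletion.evalₐ P (t + j) x = Ideal.Quotient.mk _ (rep p t x j) :=
  (Ideal.Quotient.mk_surjective (AdicCompletion.evalₐ P (t + j) x)).choose_spec.symm

include ht in
theorem exists_dpow (x : Ac) (hx : x ∈ RingHom.ker (toQuot p t ht)) (n : ℕ) :
    ∃ y : Ac, ∀ (j : ℕ) (a : A), AdicCompletion.evalₐ P (t + j) x = Ideal.Quotient.mk _ a →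
      AdicCompletion.evalₐ P j y = Ideal.Quotient.mk _ (γ.dpow n a) := by
  have hmem : ∀ j, rep p t x j ∈ I := fun j => mem_of_rep p t ht hx (mk_rep p t x j)
  refine ⟨AdicCompletion.mk P A (AdicCompletion.AdicCauchySequence.mk P A (fun j => γ.dpow n (rep p t x j))
    fun j => ?_), fun j a ha => ?_⟩
  · rw [SModEq.sub_mem, smul_eq_mul, Ideal.mul_top, ← Ideal.Quotient.eq]
    refine dpow_congr γ p t ht (hmem (j + 1)) ?_
    rw [← Ideal.Quotient.eq, ← mk_rep]
    exact evalₐ_le p (by omega) x _ (mk_rep p t x (j + 1))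
  · rw [AdicCompletion.evalₐ_mk]
    refine dpow_congr γ p t ht (mem_of_rep p t ht hx ha) ?_
    rw [← Ideal.Quotient.eq, ← mk_rep, ha]

open scoped Classical in
/-- The divided power of an element of the kernel. -/
noncomputable def dp (n : ℕ) (x : Ac) : Ac :=
  if hx : x ∈ RingHom.ker (toQuot p t ht) then (exists_dpow γ p t ht x hx n).choose else 0

theorem eval_dp {n j : ℕ} {x : Ac} (hx : x ∈ RingHom.ker (toQuot p t ht)) {a : A}
    (ha : AdicCompletion.evalₐ P (t + j) x = Ideal.Quotient.mk _ a) :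
    AdicCompletion.evalₐ P j (dp γ p t ht n x) = Ideal.Quotient.mk _ (γ.dpow n a) := by
  rw [dp, dif_pos hx]
  exact (exists_dpow γ p t ht x hx n).choose_spec j a ha

theorem dp_mem {n : ℕ} (hn : n ≠ 0) {x : Ac} (hx : x ∈ RingHom.ker (toQuot p t ht)) :
    dp γ p t ht n x ∈ RingHom.ker (toQuot p t ht) := by
  have h := eval_dp γ p t ht (n := n) (j := t) hx (mk_rep p t x t)
  show Ideal.Quotient.factor ht (AdicCompletion.evalₐ P t _) = 0
  rw [h, Ideal.Quotient.factor_mk, Ideal.Quotient.eq_zero_iff_mem]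
  exact γ.dpow_mem hn (mem_of_rep p t ht hx (mk_rep p t x t))

/-- The divided powers on the kernel of `Â → A/I`. -/
noncomputable def dividedPowers : DividedPowers (RingHom.ker (toQuot p t ht)) where
  dpow := dp γ p t ht
  dpow_null {n x} hx := dif_neg hx
  dpow_zero {x} hx := AdicCompletion.ext_evalₐ fun j => by
    rw [eval_dp γ p t ht hx (mk_rep p t x j), γ.dpow_zero (mem_of_rep p t ht hx (mk_rep p t x j)), map_one, map_one]
  dpow_one {x} hx := AdicCompletion.ext_evalₐ fun j => by
    rw [eval_dp γ p t ht hx (mk_rep p t x j), γ.dpow_one (mem_of_rep p t ht hx (mk_rep p t x j)),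
      evalₐ_le p (Nat.le_add_left j t) x _ (mk_rep p t x j)]
  dpow_mem {n x} hn hx := dp_mem γ p t ht hn hx
  dpow_add {n x y} hx hy := AdicCompletion.ext_evalₐ fun j => by
    have ha := mk_rep p t x j
    have hb := mk_rep p t y j
    rw [eval_dp γ p t ht (Ideal.add_mem _ hx hy) (a := rep p t x j + rep p t y j) (by rw [map_add, ha, hb, map_add]),
      γ.dpow_add (mem_of_rep p t ht hx ha) (mem_of_rep p t ht hy hb), map_sum, map_sum]
    refine Finset.sum_congr rfl fun k _ => ?_
    rw [map_mul, map_mul, eval_dp γ p t ht hx ha, eval_dp γ p t ht hy hb]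
  dpow_mul {n c x} hx := AdicCompletion.ext_evalₐ fun j => by
    have ha := mk_rep p t x j
    have hc := mk_rep p t c j
    rw [eval_dp γ p t ht (Ideal.mul_mem_left _ _ hx) (a := rep p t c j * rep p t x j) (by rw [map_mul, hc, ha, map_mul]),
      γ.dpow_mul (mem_of_rep p t ht hx ha), map_mul, map_mul, map_pow, map_pow, eval_dp γ p t ht hx ha,
      evalₐ_le p (Nat.le_add_left j t) c _ hc]
  mul_dpow {m n x} hx := AdicCompletion.ext_evalₐ fun j => by
    have ha := mk_rep p t x j
    rw [map_mul, map_mul, eval_dp γ p t ht hx ha, eval_dp γ p t ht hx ha, eval_dp γ p t ht hx ha, ← map_mul,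
      γ.mul_dpow (mem_of_rep p t ht hx ha), map_mul, map_natCast, map_natCast]
  dpow_comp {m n x} hn hx := AdicCompletion.ext_evalₐ fun j => by
    have ha := mk_rep p t x (t + j)
    have hb := evalₐ_le p (show t + j ≤ t + (t + j) by omega) x _ ha
    rw [eval_dp γ p t ht (dp_mem γ p t ht hn hx) (eval_dp γ p t ht hx ha), map_mul, eval_dp γ p t ht hx hb,
      γ.dpow_comp hn (mem_of_rep p t ht hx ha), map_mul, map_natCast, map_natCast]

theorem isDPMorphism : γ.IsDPMorphism (dividedPowers γ p t ht) (algebraMap A Ac) := by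
  have hev : ∀ (j : ℕ) (a : A), AdicCompletion.evalₐ P j (algebraMap A Ac a) = Ideal.Quotient.mk _ a :=
    fun j a => AlgHom.commutes _ a
  have hle : I.map (algebraMap A Ac) ≤ RingHom.ker (toQuot p t ht) := Ideal.map_le_iff_le_comap.2 fun a ha => by
    show Ideal.Quotient.factor ht (AdicCompletion.evalₐ P t (algebraMap A Ac a)) = 0
    rw [hev, Ideal.Quotient.factor_mk]
    exact Ideal.Quotient.eq_zero_iff_mem.2 ha
  refine ⟨hle, fun {n} a ha => AdicCompletion.ext_evalₐ fun j => ?_⟩
  show AdicCompletion.evalₐ P j (dp γ p t ht n (algebraMap A Ac a)) = _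
  rw [eval_dp γ p t ht (hle (Ideal.mem_map_of_mem _ ha)) (hev (t + j) a), hev]

end Groth.Agent.DPowCompl
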